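import Groth.Agent.KRegLib.Mor
import Groth.Agent.KRegLib.Kinds
import Groth.Agent.CurvLocusLib.LocP
import Groth.Agent.S8656
import Groth.Agent.S1582
import Groth.Agent.FibDim.BaseField
import Groth.Agent.SmoothReg.Scheme
import Mathlib.RingTheory.KrullDimension.Regular
import Groth.Prelude.Def_RegImm

/-! The diagonal of a smooth variety is a regular immersion of codimension the dimension. -/

noncomputable section

set_option linter.style.haveILetI false
set_option backward.isDefEq.respectTransparency false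
set_option backward.isDefEq.respectTransparency.types false

universe u

open CategoryTheory CategoryTheory.Limits AlgebraicGeometry TopologicalSpace

namespace Groth.Agent.DiagReg

open Groth.Agent

/-- The dimensions of the local rings along a regular sequence cutting out an immersion. -/
theorem dim_stalk_add_length {Z X : Scheme.{u}} [IsLocallyNoetherian X] (i : Z ⟶ X) [IsImmersion i] (U : X.affineOpens)
    (hci : IsClosedImmersion (i ∣_ U.1)) (rs : List Γ(X, U.1))
    (hrs : RingTheory.Sequence.IsRegular Γ(X, U.1) rs) (hker : RingHom.ker (i.app U.1).hom = Ideal.ofList rs)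
    (z : Z) (hzU : i z ∈ U.1) :
    ringKrullDim (Z.presheaf.stalk z) + rs.length = ringKrullDim (X.presheaf.stalk (i z)) := by
  obtain ⟨hV, hs⟩ := Groth.Agent.Synt29.surjective_app_of_isClosedImmersion_restrict i U.1 U.2
  let φ : Γ(X, U.1) →+* Γ(Z, i ⁻¹ᵁ U.1) := (i.app U.1).hom
  letI : Algebra Γ(X, U.1) (X.presheaf.stalk (i z)) := (X.presheaf.germ U.1 (i z) hzU).hom.toAlgebra
  letI : Algebra Γ(Z, i ⁻¹ᵁ U.1) (Z.presheaf.stalk z) := (Z.presheaf.germ (i ⁻¹ᵁ U.1) z hzU).hom.toAlgebra
  haveI hX : IsLocalization.AtPrime (X.presheaf.stalk (i z)) (U.2.primeIdealOf ⟨i z, hzU⟩).asIdeal :=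
    U.2.isLocalization_stalk ⟨i z, hzU⟩
  haveI hZ : IsLocalization.AtPrime (Z.presheaf.stalk z) (hV.primeIdealOf ⟨z, hzU⟩).asIdeal :=
    hV.isLocalization_stalk ⟨z, hzU⟩
  have hcomap : (U.2.primeIdealOf ⟨i z, hzU⟩).asIdeal = (hV.primeIdealOf ⟨z, hzU⟩).asIdeal.comap φ := by
    have h1 := IsAffineOpen.SpecMap_appLE_fromSpec i U.2 hV le_rfl
    have h2 : U.2.primeIdealOf ⟨i z, hzU⟩ =
        Spec.map (i.appLE U.1 (i ⁻¹ᵁ U.1) le_rfl) (hV.primeIdealOf ⟨z, hzU⟩) := by
      apply U.2.fromSpec.isOpenEmbedding.injective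
      rw [U.2.fromSpec_primeIdealOf]
      show i z = (Spec.map _ ≫ U.2.fromSpec) _
      rw [h1]
      show i z = i (hV.fromSpec _)
      rw [hV.fromSpec_primeIdealOf]
    rw [h2, ← Scheme.Hom.app_eq_appLE]
    rfl
  let f : X.presheaf.stalk (i z) →+* Z.presheaf.stalk z := (i.stalkMap z).hom
  have hf : ∀ a : Γ(X, U.1), f (algebraMap _ _ a) = algebraMap _ _ (φ a) := fun a =>
    Scheme.Hom.germ_stalkMap_apply i U.1 z hzU a
  have hM : Submonoid.map φ (U.2.primeIdealOf ⟨i z, hzU⟩).asIdeal.primeCompl =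
      (hV.primeIdealOf ⟨z, hzU⟩).asIdeal.primeCompl := by
    ext b
    constructor
    · rintro ⟨a, ha, rfl⟩ hb
      exact ha (by rw [hcomap]; exact hb)
    · intro hb
      obtain ⟨a, rfl⟩ := hs b
      exact ⟨a, fun h => hb (by rw [hcomap] at h; exact h), rfl⟩
  have hfm : f = IsLocalization.map (Z.presheaf.stalk z) φ
      (show (U.2.primeIdealOf ⟨i z, hzU⟩).asIdeal.primeCompl ≤
        (hV.primeIdealOf ⟨z, hzU⟩).asIdeal.primeCompl.comap φ from
        Submonoid.map_le_iff_le_comap.1 hM.le) := by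
    refine IsLocalization.ringHom_ext (U.2.primeIdealOf ⟨i z, hzU⟩).asIdeal.primeCompl (RingHom.ext fun a => ?_)
    rw [RingHom.comp_apply, RingHom.comp_apply, hf, IsLocalization.map_eq]
  have hker' : RingHom.ker f = (RingHom.ker φ).map (algebraMap Γ(X, U.1) (X.presheaf.stalk (i z))) := by
    rw [hfm]
    exact IsLocalization.ker_map (Z.presheaf.stalk z) φ hM
  haveI : Module.Flat Γ(X, U.1) (X.presheaf.stalk (i z)) :=
    IsLocalization.flat _ (U.2.primeIdealOf ⟨i z, hzU⟩).asIdeal.primeCompl
  have hreg : RingTheory.Sequence.IsRegular (X.presheaf.stalk (i z)) (rs.map (algebraMap Γ(X, U.1) (X.presheaf.stalk (i z)))) := by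
    refine ⟨RingTheory.Sequence.IsWeaklyRegular.of_flat hrs.toIsWeaklyRegular, ?_⟩
    rw [← Ideal.map_ofList, ← hker, ← hker']
    intro htop
    rw [smul_eq_mul, Ideal.mul_top] at htop
    have h1 : (1 : X.presheaf.stalk (i z)) ∈ RingHom.ker f := by rw [← htop]; exact Submodule.mem_top
    rw [RingHom.mem_ker, map_one] at h1
    exact one_ne_zero h1
  have h := ringKrullDim_add_length_eq_ringKrullDim_of_isRegular _ hreg
  rw [List.length_map, ← Ideal.map_ofList, ← hker, ← hker',
    ringKrullDim_eq_of_ringEquiv (RingHom.quotientKerEquivOfSurjective (i.stalkMap_surjective z))] at h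
  exact h

theorem main (K : Type u) [Field K] [IsAlgClosed K] (X : Scheme.{u}) (f : X ⟶ Spec (CommRingCat.of K)) [Smooth f]
    [IsSeparated f] [QuasiCompact f] [IsIntegral X] (n : ℕ) (hn : topologicalKrullDim X = n) :
    RegImm.IsRegularImmersionOfCodim RegImm.Kind.regular n (pullback.diagonal f) := by
  let δ := pullback.diagonal f
  let p : pullback f f ⟶ Spec (CommRingCat.of K) := pullback.fst f f ≫ f
  haveI : IsIntegral (pullback f f) := S1582.result K X X f f
  haveI : Smooth p := inferInstanceAs (Smooth (pullback.fst f f ≫ f))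
  haveI : Smooth (δ ≫ p) := by
    rw [show δ ≫ p = f by simp [δ, p]]
    infer_instance
  haveI : IsLocallyNoetherian (pullback f f) := LocallyOfFiniteType.isLocallyNoetherian p
  haveI : Subsingleton ↥(Spec (CommRingCat.of K)) := inferInstanceAs (Subsingleton (PrimeSpectrum K))
  have hP : topologicalKrullDim ↥(pullback f f) = ((n + n : ℕ) : WithBot ℕ∞) := by
    rw [FibDim.topologicalKrullDim_pullback, hn]
    rfl
  have hk : RegImm.IsRegularImmersion .koszul δ :=
    S8656.result (δ ≫ p) (fun x => CurvLocusLib.isKoszulAt_of_smooth _ x) p δ rfl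
  have hr := KRegLib.regImm_of_regImm .koszul .regular δ hk
  haveI : JacobsonSpace X := LocallyOfFiniteType.jacobsonSpace f
  refine ⟨hr.1, fun z => ?_⟩
  obtain ⟨w, hw, hwc⟩ := nonempty_inter_closedPoints (Z := closure ({z} : Set X)) ⟨z, subset_closure rfl⟩
    isClosed_closure.isLocallyClosed
  obtain ⟨U, hwU, hci, rs, hrs, hker⟩ := hr.2 w
  refine ⟨U, ((specializes_iff_mem_closure.2 hw).map δ.continuous).mem_open U.1.2 hwU, hci, rs, ?_, hrs, hker⟩
  haveI : IsImmersion δ := hr.1
  have h := dim_stalk_add_length δ U hci rs hrs hker w hwU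
  have hclosed : IsClosed ({δ w} : Set ↥(pullback f f)) := by
    rw [← Set.image_singleton]
    exact δ.isClosedEmbedding.isClosedMap _ hwc
  rw [SmoothReg.ringKrullDim_stalk_closedPoint (f := f) hwc,
    SmoothReg.ringKrullDim_stalk_closedPoint (f := p) hclosed, hn, hP] at h
  have h' : n + rs.length = n + n := by exact_mod_cast h
  omega

end Groth.Agent.DiagReg
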