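import Groth.Agent.ConnCompl.Basic
import Groth.Agent.Synt29.KoszulSyntomic
import Groth.Agent.VarDim.Fibre
import Groth.Agent.VarDim.Local
import Groth.Agent.VarDim.Top
import Groth.Prelude.Def_RegImm
import Mathlib.RingTheory.Ideal.KrullsHeightTheorem

/-! Components of the inverse image under a regular immersion. -/

noncomputable section

set_option linter.style.haveILetI false
set_option backward.isDefEq.respectTransparency false
set_option backward.isDefEq.respectTransparency.types false

universe u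

open CategoryTheory CategoryTheory.Limits AlgebraicGeometry TopologicalSpace

namespace Groth.Agent.DiagReg

open Groth.Agent

theorem le_dim_component (K : Type u) [Field K] {X Y Z : Scheme.{u}} (gY : Y ⟶ Spec (CommRingCat.of K))
    [LocallyOfFiniteType gY] (f : X ⟶ Y) (c : ℕ)
    (hreg : RegImm.IsRegularImmersionOfCodim RegImm.Kind.regular c f) (ι : Z ⟶ Y) [IsClosedImmersion ι] [IsIntegral Z]
    (d : ℕ) (hd : topologicalKrullDim Z = d) (T : Set ↥(pullback f ι)) (hT : T ∈ irreducibleComponents ↥(pullback f ι)) :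
    ((d : ℕ) : WithBot ℕ∞) ≤ topologicalKrullDim ↥T + c := by
  classical
  haveI := hreg.1
  let fZ := ι ≫ gY
  haveI : LocallyOfFiniteType fZ := inferInstance
  haveI : IsLocallyNoetherian Z := LocallyOfFiniteType.isLocallyNoetherian fZ
  have hTc := isClosed_of_mem_irreducibleComponents T hT
  let W := Scheme.IdealSheafData.vanishingIdeal (⟨T, hTc⟩ : Closeds ↥(pullback f ι))
  haveI : IsIntegral W.subscheme := ConnCompl.isIntegral_vanishing hTc hT.1
  have hrange : Set.range W.subschemeι = T := by
    rw [Scheme.IdealSheafData.range_subschemeι, Scheme.IdealSheafData.coe_support_vanishingIdeal]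
    rfl
  let g : W.subscheme ⟶ Z := W.subschemeι ≫ pullback.snd f ι
  haveI : IsImmersion (pullback.snd f ι) := inferInstance
  haveI : IsImmersion g := inferInstanceAs (IsImmersion (W.subschemeι ≫ pullback.snd f ι))
  haveI : LocallyOfFiniteType g := inferInstance
  let η := genericPoint W.subscheme
  let ξ := W.subschemeι η
  let z : Z := g η
  -- the dimension of the component
  have hdimT : topologicalKrullDim ↥T = ((VarDim.deg fZ z : ℕ∞) : WithBot ℕ∞) := by
    let e : ↥W.subscheme ≃ₜ ↥T := W.subschemeι.isClosedEmbedding.isEmbedding.toHomeomorph.trans (Homeomorph.setCongr hrange)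
    rw [← e.isHomeomorph.topologicalKrullDim_eq, VarDim.topologicalKrullDim_eq_deg_genericPoint (g ≫ fZ),
      VarDim.deg_comp_eq g fZ η, VarDim.fdeg, VarDim.rdeg_preimmersion g η, map_zero, add_zero]
  -- the equations
  obtain ⟨U, hxU, hci, rs, hlen, -, hker⟩ := hreg.2 (pullback.fst f ι ξ)
  obtain ⟨hU', hUs⟩ := Synt29.surjective_app_of_isClosedImmersion_restrict f U.1 U.2
  have hcond : ∀ π : ↥(pullback f ι), ι (pullback.snd f ι π) = f (pullback.fst f ι π) := fun π => by
    rw [← Scheme.Hom.comp_apply, ← Scheme.Hom.comp_apply, pullback.condition]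
  have hzU : ι z ∈ U.1 := by
    show ι (pullback.snd f ι ξ) ∈ U.1
    rw [hcond]; exact hxU
  let V : Z.Opens := ι ⁻¹ᵁ U.1
  have hV : IsAffineOpen V := U.2.preimage ι
  let p := hV.primeIdealOf ⟨z, hzU⟩
  let J : Ideal Γ(Z, V) := Ideal.span (((fun r => ι.app U.1 r) '' {r | r ∈ rs}))
  have hmem : ∀ (q : PrimeSpectrum Γ(Z, V)) (r : Γ(Y, U.1)),
      ι.app U.1 r ∈ q.asIdeal ↔ ι (hV.fromSpec q) ∉ Y.basicOpen r := fun q r => by
    rw [← not_iff_not, not_not, ← QCoh.mem_basicOpen_fromSpec hV q (ι.app U.1 r), ← Scheme.preimage_basicOpen]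
    rfl
  have hker0 : ∀ r ∈ rs, f.app U.1 r = 0 := fun r hr =>
    RingHom.mem_ker.1 (hker ▸ Ideal.subset_span (show r ∈ {x | x ∈ rs} from hr))
  have hJp : J ≤ p.asIdeal := Ideal.span_le.2 (by
    rintro _ ⟨r, hr, rfl⟩
    refine (hmem p r).2 fun h => ?_
    rw [hV.fromSpec_primeIdealOf] at h
    change ι (pullback.snd f ι ξ) ∈ Y.basicOpen r at h
    rw [hcond] at h
    have h' : pullback.fst f ι ξ ∈ f ⁻¹ᵁ Y.basicOpen r := h
    rw [Scheme.preimage_basicOpen, hker0 r hr, Scheme.basicOpen_zero] at h'
    exact h')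
  have hmin : p.asIdeal ∈ J.minimalPrimes := by
    refine ⟨⟨p.2, hJp⟩, fun q ⟨hq, hJq⟩ hqp => ?_⟩
    let q' : PrimeSpectrum Γ(Z, V) := ⟨q, hq⟩
    let w := hV.fromSpec q'
    have hwz : w ⤳ z := by
      have h := ((PrimeSpectrum.le_iff_specializes q' p).1 hqp).map hV.fromSpec.continuous
      rwa [hV.fromSpec_primeIdealOf] at h
    -- `ι w` lies in the immersed scheme
    have hwU : ι w ∈ U.1 := by
      have h : w ∈ Set.range hV.fromSpec := ⟨q', rfl⟩
      rw [hV.range_fromSpec] at h
      exact h
    let P := U.2.primeIdealOf ⟨ι w, hwU⟩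
    have hPker : RingHom.ker (f.app U.1).hom ≤ P.asIdeal := by
      rw [hker]
      refine Ideal.span_le.2 fun r hr => ?_
      by_contra hP
      have h1 : ι w ∈ Y.basicOpen r := by
        have h2 := (QCoh.mem_basicOpen_fromSpec U.2 P r).2 hP
        rwa [U.2.fromSpec_primeIdealOf] at h2
      exact ((hmem q' r).1 (hJq (Ideal.subset_span ⟨r, hr, rfl⟩))) h1
    obtain ⟨P', hP'⟩ : P ∈ Set.range (Spec.map (f.app U.1)) := by
      have h := _root_.range_comap_of_surjective _ (f.app U.1).hom hUs
      change P ∈ Set.range (PrimeSpectrum.comap (f.app U.1).hom)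
      rw [h]
      exact hPker
    have hx' : f (hU'.fromSpec P') = ι w := by
      rw [← Scheme.Hom.comp_apply, ← IsAffineOpen.SpecMap_appLE_fromSpec f U.2 hU' le_rfl, Scheme.Hom.comp_apply,
        ← Scheme.Hom.app_eq_appLE, hP', U.2.fromSpec_primeIdealOf]
    obtain ⟨π, hπ1, hπ2⟩ := Scheme.Pullback.exists_preimage_pullback (hU'.fromSpec P') w hx'
    have hπξ : π ⤳ ξ := (pullback.snd f ι).isEmbedding.isInducing.specializes_iff.1 (by
      rw [hπ2]; exact hwz)
    have hπT : π ∈ T := by
      have hsub : T ⊆ closure {π} := by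
        rw [← hrange]
        rintro _ ⟨v, rfl⟩
        exact (hπξ.trans ((genericPoint_specializes v).map W.subschemeι.continuous)).mem_closure
      exact hT.2 isIrreducible_singleton.closure hsub (subset_closure rfl)
    have hξπ : ξ ⤳ π := by
      rw [← hrange] at hπT
      obtain ⟨v, rfl⟩ := hπT
      exact (genericPoint_specializes v).map W.subschemeι.continuous
    have hzw : z = w := by
      show pullback.snd f ι ξ = w
      rw [(hξπ.antisymm hπξ).eq, hπ2]
    have : p = q' := hV.fromSpec.isOpenEmbedding.injective (by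
      rw [hV.fromSpec_primeIdealOf]; exact hzw)
    exact (congrArg PrimeSpectrum.asIdeal this).le
  haveI : IsNoetherianRing Γ(Z, V) := IsLocallyNoetherian.component_noetherian ⟨V, hV⟩
  have hht : p.asIdeal.height ≤ c := by
    refine (Ideal.height_le_card_of_mem_minimalPrimes_span (rs.finite_toSet.image _) hmin).trans ?_
    rw [← hlen]
    have h1 := Set.ncard_image_le (f := fun r => ι.app U.1 r) rs.finite_toSet
    have h2 : {r | r ∈ rs}.ncard ≤ rs.length := by
      rw [← List.coe_toFinset, Set.ncard_coe_finset]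
      exact List.toFinset_card_le rs
    exact_mod_cast h1.trans h2
  letI := TopCat.Presheaf.algebra_section_stalk Z.presheaf (⟨z, hzU⟩ : V)
  haveI := hV.isLocalization_stalk ⟨z, hzU⟩
  have hst : ringKrullDim (Z.presheaf.stalk z) ≤ ((c : ℕ∞) : WithBot ℕ∞) := by
    rw [IsLocalization.AtPrime.ringKrullDim_eq_height p.asIdeal (Z.presheaf.stalk z)]
    exact WithBot.coe_le_coe.2 hht
  obtain ⟨b, hb, -, hle⟩ := VarDim.exists_deg_add_stalk fZ z
  rw [hb] at hst
  have hbc : b ≤ c := by exact_mod_cast hst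
  have hdeg := hle _ (genericPoint_specializes z)
  rw [VarDim.topologicalKrullDim_eq_deg_genericPoint fZ] at hd
  have hd' : VarDim.deg fZ (genericPoint Z) = d := by exact_mod_cast hd
  rw [hdimT]
  have : d ≤ VarDim.deg fZ z + c := by omega
  exact_mod_cast this

end Groth.Agent.DiagReg
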